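import Cfsg.Agent.H854.Ab
import Cfsg.Agent.Fischer480.Defs
set_option linter.all false

/-!
# S5554: common interface

`ClosedSection D V S`: `S ⊆ D` is closed under conjugation by its members and meets every class
`D ∩ dV` in exactly one element.  `NormCls D E`: a subset of `D` closed under its own conjugation.
-/

set_option autoImplicit false

namespace Cfsg.Agent.H853.TDefs

open Subgroup Cfsg.Agent.H854 Cfsg.Agent.H854.TM Cfsg.Agent.H854.ClassBasic Cfsg.Agent.H854.Ab

/-- a section of `D → D V / V` closed under conjugation -/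
structure ClosedSection {G : Type*} [Group G] (D : Set G) (V : Subgroup G) (S : Set G) : Prop where
  sub : S ⊆ D
  conj : ∀ s ∈ S, ∀ t ∈ S, s * t * s⁻¹ ∈ S
  surj : ∀ d ∈ D, ∃ s ∈ S, s⁻¹ * d ∈ V
  inj : ∀ s ∈ S, ∀ t ∈ S, s⁻¹ * t ∈ V → s = t

end Cfsg.Agent.H853.TDefs
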